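import Groth.Agent.Lib.Glue.RingBase
import Mathlib.RingTheory.RingHom.Flat
import Mathlib.RingTheory.RingHom.Finite
import Mathlib.RingTheory.RingHom.FiniteType
import Mathlib.RingTheory.RingHom.Surjective

/-!
# The two base changes of an algebra map, as algebra maps
-/

universe u

open TensorProduct

attribute [local instance] Algebra.TensorProduct.rightAlgebra

namespace Groth.Agent.Glue

variable {R S A B : Type u} [CommRing R] [CommRing S] [CommRing A] [CommRing B] [Algebra R S]
  [Algebra R A] [Algebra R B] [Algebra A B] [IsScalarTower R A B]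
  {P : ∀ {X Y : Type u} [CommRing X] [CommRing Y], (X →+* Y) → Prop}

theorem comp_iff (hP : RingHom.RespectsIso P) {X Y Z : Type u} [CommRing X] [CommRing Y]
    [CommRing Z] (g : X →+* Y) (e : Y ≃+* Z) : P (e.toRingHom.comp g) ↔ P g := by
  refine ⟨fun h => ?_, hP.1 g e⟩
  have := hP.1 _ e.symm h
  rwa [← RingHom.comp_assoc, RingEquiv.toRingHom_eq_coe, RingEquiv.toRingHom_eq_coe,
    RingEquiv.symm_comp, RingHom.id_comp] at this

theorem map_iff (hP : RingHom.RespectsIso P) :
    P (Algebra.TensorProduct.map (AlgHom.id R S) (IsScalarTower.toAlgHom R A B)).toRingHom ↔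
      P (algebraMap (S ⊗[R] A) ((S ⊗[R] A) ⊗[A] B)) := by
  let e := Algebra.IsPushout.cancelBaseChangeAlg R S A (S ⊗[R] A) B
  have : algebraMap (S ⊗[R] A) ((S ⊗[R] A) ⊗[A] B) = e.symm.toRingEquiv.toRingHom.comp
      (Algebra.TensorProduct.map (AlgHom.id R S) (IsScalarTower.toAlgHom R A B)).toRingHom := by
    refine RingHom.ext fun z => ?_
    induction z with
    | zero => simp
    | tmul s a =>
      show (s ⊗ₜ[R] a) ⊗ₜ[A] (1 : B) = e.symm (s ⊗ₜ[R] algebraMap A B a)
      rw [Algebra.IsPushout.cancelBaseChangeAlg_symm_tmul, Algebra.algebraMap_eq_smul_one a,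
        TensorProduct.tmul_smul, TensorProduct.smul_tmul', Algebra.smul_def,
        Algebra.TensorProduct.algebraMap_eq_includeRight]
      simp [Algebra.TensorProduct.algebraMap_apply]
    | add a b ha hb => simp only [map_add, ha, hb]
  rw [this, comp_iff hP]

theorem awayMap_iff (hP : RingHom.RespectsIso P) (a : A) :
    P (Localization.awayMap (algebraMap A B) a) ↔
      P (algebraMap (Localization.Away a) (Localization.Away a ⊗[A] B)) := by
  let Bf := Localization.Away (algebraMap A B a)
  letI : Algebra (Localization.Away a) Bf := (Localization.awayMap (algebraMap A B) a).toAlgebra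
  haveI : IsScalarTower A (Localization.Away a) Bf := IsScalarTower.of_algebraMap_eq fun x => by
    rw [RingHom.algebraMap_toAlgebra, Localization.awayMap, IsLocalization.Away.map,
      IsLocalization.map_eq, IsScalarTower.algebraMap_apply A B Bf]
  haveI : IsLocalization (Algebra.algebraMapSubmonoid B (Submonoid.powers a)) Bf := by
    rw [Algebra.algebraMapSubmonoid_powers]; infer_instance
  haveI : Algebra.IsPushout A (Localization.Away a) B Bf := Algebra.IsPushout.symm
    ((Algebra.isLocalization_iff_isPushout (Submonoid.powers a) (Localization.Away a)).mp inferInstance)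
  let e := Algebra.IsPushout.equiv A (Localization.Away a) B Bf
  have : Localization.awayMap (algebraMap A B) a = e.toRingEquiv.toRingHom.comp
      (algebraMap (Localization.Away a) (Localization.Away a ⊗[A] B)) :=
    RingHom.ext fun x => (e.commutes x).symm
  rw [this, comp_iff hP]

variable {f : R} (hRR : EtGlue.IsGlueingPair R S f)

include hRR

theorem flat_algebra_iff :
    Module.Flat R B ↔ Module.Flat (Localization.Away f) (Localization.Away f ⊗[R] B) ∧
      Module.Flat S (S ⊗[R] B) := by
  refine ⟨fun _ => ⟨inferInstance, inferInstance⟩, fun ⟨_, h⟩ => (flat_iff_of_glueingPair hRR).mpr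
    ⟨h, Module.Flat.of_linearEquiv (LocalizedModule.equivTensorProduct (Submonoid.powers f) B)⟩⟩

end Groth.Agent.Glue
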