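import Groth.Agent.Lib.Glue.Torsion

/-!
# Beauville-Laszlo: a module glued from `M'` over `S` and `M₁` over `R_f`
-/

universe u

open TensorProduct

namespace Groth.Agent.Glue

variable {R S : Type u} [CommRing R] [CommRing S] [Algebra R S] {f : R}
  {M M₁ M' : Type u} [AddCommGroup M] [Module R M] [AddCommGroup M₁] [Module R M₁]
  [AddCommGroup M'] [Module R M'] [Module S M'] [IsScalarTower R S M']

theorem pow_smul_bijective (hf : Function.Bijective fun x : M₁ => f • x) (n : ℕ) :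
    Function.Bijective fun x : M₁ => f ^ n • x := by
  induction n with
  | zero => simp only [pow_zero, one_smul]; exact Function.bijective_id
  | succ n ih =>
    have he : (fun x : M₁ => f ^ (n + 1) • x) = (fun x => f ^ n • x) ∘ fun x => f • x := by
      funext x; simp [pow_succ, mul_smul]
    rw [he]; exact ih.comp hf

variable {p₁ : M →ₗ[R] M'} {p₂ : M →ₗ[R] M₁} {L : M' →ₗ[S] S ⊗[R] M₁}

/-- The data making `M` the fibre product of `M'` and `M₁` over `S ⊗ M₁`. -/
structure IsGlued (f : R) (p₁ : M →ₗ[R] M') (p₂ : M →ₗ[R] M₁) (L : M' →ₗ[S] S ⊗[R] M₁) : Prop where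
  bij : Function.Bijective fun x : M₁ => f • x
  surj : ∀ z : S ⊗[R] M₁, ∃ (k : ℕ) (x : M'), f ^ k • z = L x
  ker : ∀ x, L x = 0 → IsTors f x
  comm : ∀ m, L (p₁ m) = (1 : S) ⊗ₜ[R] p₂ m
  inj : ∀ m, p₁ m = 0 → p₂ m = 0 → m = 0
  pull : ∀ x y, L x = (1 : S) ⊗ₜ[R] y → ∃ m, p₁ m = x ∧ p₂ m = y

variable (h : IsGlued f p₁ p₂ L)

include h

theorem IsGlued.isLocalizedModule : IsLocalizedModule (Submonoid.powers f) p₂ := by
  refine ⟨?_, fun y => ?_, fun {a b} hab => ?_⟩
  · rintro ⟨_, n, rfl⟩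
    rw [Module.End.isUnit_iff]
    exact pow_smul_bijective h.bij n
  · obtain ⟨k, x, hx⟩ := h.surj ((1 : S) ⊗ₜ[R] y)
    obtain ⟨m, -, hm⟩ := h.pull x (f ^ k • y) (by rw [← hx, tmul_smul])
    exact ⟨⟨m, ⟨f ^ k, k, rfl⟩⟩, hm.symm⟩
  · obtain ⟨k, hk⟩ := h.ker (p₁ (a - b)) (by rw [h.comm, map_sub, hab, sub_self, tmul_zero])
    refine ⟨⟨f ^ k, k, rfl⟩, sub_eq_zero.mp ?_⟩
    show f ^ k • a - f ^ k • b = 0
    rw [← smul_sub]
    exact h.inj _ (by rw [map_smul, hk]) (by rw [map_smul, map_sub, hab, sub_self, smul_zero])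

theorem IsGlued.bijective_liftBaseChange (hRR : EtGlue.IsGlueingPair R S f) :
    Function.Bijective (p₁.liftBaseChange S) := by
  haveI := h.isLocalizedModule
  have hL : ∀ z : S ⊗[R] M, L (p₁.liftBaseChange S z) = p₂.lTensor S z := by
    intro z
    induction z with
    | zero => simp
    | tmul s m =>
      rw [LinearMap.liftBaseChange_tmul, map_smul, h.comm, smul_tmul', smul_eq_mul, mul_one,
        LinearMap.lTensor_tmul]
    | add a b ha hb => simp only [map_add, ha, hb]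
  refine ⟨(injective_iff_map_eq_zero _).mpr fun z hz => ?_, fun x => ?_⟩
  · obtain ⟨m, hm, rfl⟩ := exists_of_glueingPair hRR z
      (isTors_of_lTensor_eq_zero S p₂ (by rw [← hL, hz, map_zero]))
    rw [h.inj m (by simpa using hz) (map_eq_zero_of_isTors p₂ hm), tmul_zero]
  · have key : ∀ z : S ⊗[R] M₁, ∃ (y : M₁) (u : S ⊗[R] M),
        z = (1 : S) ⊗ₜ[R] y + L (p₁.liftBaseChange S u) := by
      intro z
      induction z with
      | zero => exact ⟨0, 0, by simp⟩
      | tmul s y =>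
        obtain ⟨K, m, hm⟩ := exists_pow_smul_eq (f := f) p₂ y
        obtain ⟨r, t, rfl⟩ := exists_add_mul hRR.1 K s
        refine ⟨r • y, t ⊗ₜ m, ?_⟩
        rw [hL, LinearMap.lTensor_tmul, ← hm, add_tmul, tmul_smul, tmul_smul, smul_tmul',
          smul_tmul', Algebra.smul_def, Algebra.smul_def, mul_one]
      | add a b ha hb =>
        obtain ⟨y₁, u₁, rfl⟩ := ha
        obtain ⟨y₂, u₂, rfl⟩ := hb
        exact ⟨y₁ + y₂, u₁ + u₂, by rw [tmul_add, map_add, map_add]; abel⟩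
    obtain ⟨y, u, hu⟩ := key (L x)
    obtain ⟨m, hm, -⟩ := h.pull (x - p₁.liftBaseChange S u) y (by rw [map_sub, hu]; abel)
    exact ⟨(1 : S) ⊗ₜ m + u, by rw [map_add, LinearMap.liftBaseChange_tmul, one_smul, hm]; abel⟩

theorem IsGlued.isGlueable (hRR : EtGlue.IsGlueingPair R S f) : EtGlue.IsGlueable R S f M := by
  haveI := h.isLocalizedModule
  refine (isGlueable_iff_inj hRR).mpr fun m hm h1 => h.inj m ?_ (map_eq_zero_of_isTors p₂ hm)
  have := congrArg (p₁.liftBaseChange S) h1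
  rwa [LinearMap.liftBaseChange_tmul, one_smul, map_zero] at this

end Groth.Agent.Glue
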