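import Groth.Prelude.Def_EtGlue
import Mathlib.LinearAlgebra.TensorProduct.RightExactness
import Mathlib.LinearAlgebra.TensorProduct.Quotient
import Mathlib.RingTheory.Localization.BaseChange
import Mathlib.Tactic.LinearCombination
import Mathlib.Tactic.Ring
import Mathlib.Tactic.Abel

/-!
# Basic facts on glueing pairs

`R → S` with `R/f^n ≅ S/f^n`: behaviour of `f`-power torsion under `S ⊗[R] -`.
-/

universe u v w

open TensorProduct

namespace Groth.Agent.Glue

variable {R S : Type u} [CommRing R] [CommRing S] [Algebra R S] {f : R}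

/-- An element killed by a power of `f`. -/
def IsTors (f : R) {M : Type v} [AddCommGroup M] [Module R M] (m : M) : Prop := ∃ n : ℕ, f ^ n • m = 0

theorem exists_add_mul (hq : EtGlue.QuotPowBijective R S f) (n : ℕ) (s : S) :
    ∃ (r : R) (t : S), s = algebraMap R S r + algebraMap R S (f ^ n) * t := by
  rcases Nat.eq_zero_or_pos n with rfl | hn
  · exact ⟨0, s, by simp⟩
  obtain ⟨rbar, hr⟩ := (hq n hn).2 (Ideal.Quotient.mk _ s)
  obtain ⟨r, rfl⟩ := Ideal.Quotient.mk_surjective rbar
  rw [Ideal.quotientMap_mk, eq_comm, Ideal.Quotient.eq, Ideal.map_span, Set.image_singleton,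
    Ideal.mem_span_singleton'] at hr
  obtain ⟨t, ht⟩ := hr
  exact ⟨r, t, by rw [mul_comm, ht]; ring⟩

theorem exists_eq_mul_of_algebraMap_eq (hq : EtGlue.QuotPowBijective R S f) (n : ℕ) (r : R) (t : S)
    (h : algebraMap R S r = algebraMap R S (f ^ n) * t) : ∃ u, r = f ^ n * u := by
  rcases Nat.eq_zero_or_pos n with rfl | hn
  · exact ⟨r, by simp⟩
  have hz : Ideal.Quotient.mk (Ideal.span {f ^ n}) r = 0 := by
    refine (hq n hn).1 ?_
    rw [Ideal.quotientMap_mk, map_zero, Ideal.Quotient.eq_zero_iff_mem, h, Ideal.map_span,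
      Set.image_singleton]
    exact Ideal.mul_mem_right _ _ (Ideal.mem_span_singleton_self _)
  rw [Ideal.Quotient.eq_zero_iff_mem, Ideal.mem_span_singleton'] at hz
  obtain ⟨u, hu⟩ := hz
  exact ⟨u, by rw [← hu, mul_comm]⟩

variable {M : Type v} [AddCommGroup M] [Module R M]

theorem exists_one_tmul_add (hq : EtGlue.QuotPowBijective R S f) (n : ℕ) (x : S ⊗[R] M) :
    ∃ (m : M) (x' : S ⊗[R] M), x = (1 : S) ⊗ₜ[R] m + f ^ n • x' := by
  induction x with
  | zero => exact ⟨0, 0, by simp⟩
  | tmul s m =>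
    obtain ⟨r, t, rfl⟩ := exists_add_mul hq n s
    refine ⟨r • m, t ⊗ₜ m, ?_⟩
    rw [add_tmul, tmul_smul, smul_tmul', smul_tmul', Algebra.smul_def, Algebra.smul_def, mul_one]
  | add x y hx hy =>
    obtain ⟨m₁, x₁, rfl⟩ := hx
    obtain ⟨m₂, x₂, rfl⟩ := hy
    exact ⟨m₁ + m₂, x₁ + x₂, by rw [tmul_add, smul_add]; abel⟩

/-- The inverse of `R/f^n → S/f^n`, precomposed with the quotient map. -/
theorem exists_quot_retraction (hq : EtGlue.QuotPowBijective R S f) (n : ℕ) :
    ∃ ψ : S →ₗ[R] R ⧸ Ideal.span {f ^ n}, ψ 1 = 1 := by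
  choose r t hrt using exists_add_mul hq n
  have key : ∀ (s : S) (r' : R) (t' : S), s = algebraMap R S r' + algebraMap R S (f ^ n) * t' →
      Ideal.Quotient.mk (Ideal.span {f ^ n}) (r s) = Ideal.Quotient.mk _ r' := by
    intro s r' t' h
    obtain ⟨u, hu⟩ := exists_eq_mul_of_algebraMap_eq hq n (r s - r') (t' - t s) (by
      rw [map_sub, mul_sub]; linear_combination h - hrt s)
    rw [Ideal.Quotient.eq, hu]
    exact Ideal.mul_mem_right _ _ (Ideal.mem_span_singleton_self _)
  refine ⟨{ toFun := fun s => Ideal.Quotient.mk _ (r s), map_add' := ?_, map_smul' := ?_ }, ?_⟩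
  · intro a b
    rw [key (a + b) (r a + r b) (t a + t b) ?_, map_add]
    conv_lhs => rw [hrt a, hrt b]
    rw [map_add]; ring
  · intro c a
    rw [key (c • a) (c * r a) (c • t a) ?_, RingHom.id_apply, map_mul]
    · rw [Algebra.smul_def, Ideal.Quotient.algebraMap_eq]
    conv_lhs => rw [hrt a]
    rw [Algebra.smul_def, Algebra.smul_def, map_mul]; ring
  · exact key 1 1 0 (by simp)

theorem exists_eq_smul_of_one_tmul (hq : EtGlue.QuotPowBijective R S f) (n : ℕ) (m : M)
    (x : S ⊗[R] M) (h : (1 : S) ⊗ₜ[R] m = f ^ n • x) : ∃ μ : M, m = f ^ n • μ := by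
  obtain ⟨ψ, hψ⟩ := exists_quot_retraction hq n
  have h1 : (1 : R ⧸ Ideal.span {f ^ n}) ⊗ₜ[R] m = 0 := by
    have h' := congrArg (ψ.rTensor M) h
    rw [LinearMap.rTensor_tmul, hψ, map_smul] at h'
    rw [h']
    generalize ψ.rTensor M x = y
    induction y with
    | zero => simp
    | tmul a b =>
      rw [smul_tmul', Algebra.smul_def, Ideal.Quotient.algebraMap_eq,
        Ideal.Quotient.eq_zero_iff_mem.mpr (Ideal.mem_span_singleton_self _), zero_mul, zero_tmul]
    | add a b ha hb => rw [smul_add, ha, hb, add_zero]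
  have h2 := congrArg (TensorProduct.quotTensorEquivQuotSMul M (Ideal.span {f ^ n})) h1
  rw [quotTensorEquivQuotSMul_mk_one_tmul, map_zero, Submodule.Quotient.mk_eq_zero,
    Submodule.ideal_span_singleton_smul, Submodule.mem_smul_pointwise_iff_exists] at h2
  obtain ⟨μ, -, hμ⟩ := h2
  exact ⟨μ, hμ.symm⟩

/-- `W → S ⊗ W` is surjective for `W` an `f`-power torsion module. -/
theorem surjective_one_tmul (hq : EtGlue.QuotPowBijective R S f) (htors : ∀ w : M, IsTors f w) :
    Function.Surjective (TensorProduct.mk R S M 1) := by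
  intro x
  induction x with
  | zero => exact ⟨0, map_zero _⟩
  | tmul s w =>
    obtain ⟨n, hn⟩ := htors w
    obtain ⟨r, t, rfl⟩ := exists_add_mul hq n s
    refine ⟨r • w, ?_⟩
    rw [TensorProduct.mk_apply, add_tmul, tmul_smul, smul_tmul', Algebra.smul_def, mul_one,
      ← Algebra.smul_def, smul_tmul, hn, tmul_zero, add_zero]
  | add x y hx hy =>
    obtain ⟨a, rfl⟩ := hx
    obtain ⟨b, rfl⟩ := hy
    exact ⟨a + b, map_add _ _ _⟩

/-- `W → S ⊗ W` is injective for `W` an `f`-power torsion module. -/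
theorem injective_one_tmul (hq : EtGlue.QuotPowBijective R S f) (htors : ∀ w : M, IsTors f w) :
    Function.Injective (TensorProduct.mk R S M 1) := by
  choose n hn using htors
  choose r t hrt using exists_add_mul hq
  have key : ∀ (w : M) (N : ℕ) (s : S) (r' : R) (t' : S), f ^ N • w = 0 →
      s = algebraMap R S r' + algebraMap R S (f ^ N) * t' → r (n w) s • w = r' • w := by
    intro w N s r' t' hN hs
    obtain ⟨k, hkN, hkn, hk⟩ : ∃ k, k ≤ N ∧ k ≤ n w ∧ f ^ k • w = 0 := by
      rcases le_total N (n w) with h | h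
      · exact ⟨N, le_rfl, h, hN⟩
      · exact ⟨n w, h, le_rfl, hn w⟩
    obtain ⟨a, ha⟩ := Nat.exists_eq_add_of_le hkN
    obtain ⟨b, hb⟩ := Nat.exists_eq_add_of_le hkn
    have h2 : algebraMap R S (f ^ N) = algebraMap R S (f ^ k) * algebraMap R S (f ^ a) := by
      rw [ha, pow_add, map_mul]
    have h3 : algebraMap R S (f ^ n w) = algebraMap R S (f ^ k) * algebraMap R S (f ^ b) := by
      rw [hb, pow_add, map_mul]
    obtain ⟨u, hu⟩ := exists_eq_mul_of_algebraMap_eq hq k (r (n w) s - r')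
      (algebraMap R S (f ^ a) * t' - algebraMap R S (f ^ b) * t (n w) s) (by
        rw [map_sub, mul_sub, ← mul_assoc, ← mul_assoc, ← h2, ← h3]
        linear_combination hs - hrt (n w) s)
    rw [← sub_eq_zero, ← sub_smul, hu, mul_comm, mul_smul, hk, smul_zero]
  let B : S →ₗ[R] M →ₗ[R] M := LinearMap.mk₂ R (fun s w => r (n w) s • w)
    (fun a b w => by
      rw [key w (n w) (a + b) (r (n w) a + r (n w) b) (t (n w) a + t (n w) b) (hn w) ?_, add_smul]
      conv_lhs => rw [hrt (n w) a, hrt (n w) b]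
      rw [map_add]; ring)
    (fun c a w => by
      rw [key w (n w) (c • a) (c * r (n w) a) (c • t (n w) a) (hn w) ?_, mul_smul]
      conv_lhs => rw [hrt (n w) a]
      rw [Algebra.smul_def, Algebra.smul_def, map_mul]; ring)
    (fun a w w' => by
      have e : ∀ (i : ℕ) (v : M), f ^ i • v = 0 → ∀ j, f ^ (i + j) • v = 0 := fun i v h j => by
        rw [pow_add, mul_comm, mul_smul, h, smul_zero]
      have hw := e _ _ (hn w) (n w')
      have hw' : f ^ (n w + n w') • w' = 0 := by rw [add_comm]; exact e _ _ (hn w') (n w)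
      rw [key (w + w') (n w + n w') a _ _ (by rw [smul_add, hw, hw', add_zero]) (hrt _ a), smul_add,
        key w _ a _ _ hw (hrt (n w + n w') a), key w' _ a _ _ hw' (hrt (n w + n w') a)])
    (fun c a w => by
      rw [key (c • w) (n w) a _ _ (by rw [smul_comm, hn w, smul_zero]) (hrt _ a), smul_comm])
  refine Function.LeftInverse.injective (g := TensorProduct.lift B) fun w => ?_
  rw [TensorProduct.mk_apply, TensorProduct.lift.tmul, LinearMap.mk₂_apply,
    key w (n w) 1 1 0 (hn w) (by simp), one_smul]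

theorem bijective_one_tmul (hq : EtGlue.QuotPowBijective R S f) (htors : ∀ w : M, IsTors f w) :
    Function.Bijective (TensorProduct.mk R S M 1) :=
  ⟨injective_one_tmul hq htors, surjective_one_tmul hq htors⟩

/-- A module which dies in `R_f` and in `S` is zero. -/
theorem subsingleton_of_tensor (hq : EtGlue.QuotPowBijective R S f)
    (hS : Subsingleton (S ⊗[R] M)) (hf : ∀ m : M, IsTors f m) : Subsingleton M :=
  (injective_one_tmul hq hf).subsingleton

section Localization

variable {M₁ : Type w} [AddCommMonoid M₁] [Module R M₁]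

theorem isTors_of_map_eq_zero (g : M →ₗ[R] M₁) [IsLocalizedModule (Submonoid.powers f) g] {m : M}
    (h : g m = 0) : IsTors f m := by
  obtain ⟨⟨_, n, rfl⟩, hn⟩ := (IsLocalizedModule.eq_zero_iff (Submonoid.powers f) g).mp h
  exact ⟨n, hn⟩

theorem isTors_sub_of_map_eq (g : M →ₗ[R] M₁) [IsLocalizedModule (Submonoid.powers f) g] {a b : M}
    (h : g a = g b) : IsTors f (a - b) := by
  obtain ⟨⟨_, n, rfl⟩, hn⟩ := IsLocalizedModule.exists_of_eq (S := Submonoid.powers f) h
  exact ⟨n, by rw [smul_sub, sub_eq_zero]; exact hn⟩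

theorem map_eq_zero_of_isTors (g : M →ₗ[R] M₁) [IsLocalizedModule (Submonoid.powers f) g] {m : M}
    (h : IsTors f m) : g m = 0 := by
  obtain ⟨n, hn⟩ := h
  exact (IsLocalizedModule.eq_zero_iff (Submonoid.powers f) g).mpr ⟨⟨_, n, rfl⟩, hn⟩

theorem exists_pow_smul_eq (g : M →ₗ[R] M₁) [IsLocalizedModule (Submonoid.powers f) g] (y : M₁) :
    ∃ (n : ℕ) (m : M), f ^ n • y = g m := by
  obtain ⟨⟨m, ⟨_, n, rfl⟩⟩, hm⟩ := IsLocalizedModule.surj (Submonoid.powers f) g y
  exact ⟨n, m, hm⟩

theorem pow_smul_injective (g : M →ₗ[R] M₁) [IsLocalizedModule (Submonoid.powers f) g] (n : ℕ) :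
    Function.Injective fun y : M₁ => f ^ n • y :=
  IsLocalizedModule.smul_injective g (⟨f ^ n, n, rfl⟩ : Submonoid.powers f)

theorem isTors_of_lTensor_eq_zero (X : Type*) [AddCommGroup X] [Module R X] (g : M →ₗ[R] M₁)
    [IsLocalizedModule (Submonoid.powers f) g] {z : X ⊗[R] M} (h : g.lTensor X z = 0) :
    IsTors f z := by
  have hc : ∀ z : X ⊗[R] M, AlgebraTensorModule.rTensor R X g (TensorProduct.comm R X M z) =
      TensorProduct.comm R X M₁ (g.lTensor X z) := fun z => by
    induction z with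
    | zero => simp
    | tmul a b => simp
    | add a b ha hb => simp only [map_add, ha, hb]
  have h' : AlgebraTensorModule.rTensor R X g (TensorProduct.comm R X M z) = 0 := by
    rw [hc, h, map_zero]
  obtain ⟨n, hn⟩ := isTors_of_map_eq_zero (f := f) (AlgebraTensorModule.rTensor R X g) h'
  refine ⟨n, (TensorProduct.comm R X M).injective ?_⟩
  rw [map_smul, hn, map_zero]

end Localization

end Groth.Agent.Glue
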