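import Groth.Agent.Lib.Glue.FlatDescent
import Mathlib.RingTheory.Flat.EquationalCriterion
import Mathlib.LinearAlgebra.TensorProduct.Finiteness

/-!
# Finiteness along a glueing pair
-/

universe u v

open TensorProduct

namespace Groth.Agent.Glue

variable {R S : Type u} [CommRing R] [CommRing S] [Algebra R S] {f : R}

theorem surjective_of_tensor (hq : EtGlue.QuotPowBijective R S f) (Rf : Type u) [CommRing Rf]
    [Algebra R Rf] [IsLocalization.Away f Rf] {N M : Type v} [AddCommGroup N]
    [Module R N] [AddCommGroup M] [Module R M] (g : N →ₗ[R] M)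
    (hS : Function.Surjective (g.lTensor S))
    (hf : Function.Surjective (g.lTensor Rf)) : Function.Surjective g := by
  let q := (LinearMap.range g).mkQ
  have key : ∀ (A : Type u) [AddCommGroup A] [Module R A], Function.Surjective (g.lTensor A) →
      Subsingleton (A ⊗[R] (M ⧸ LinearMap.range g)) := by
    intro A _ _ hA
    refine ⟨fun a b => ?_⟩
    have : ∀ z : A ⊗[R] (M ⧸ LinearMap.range g), z = 0 := fun z => by
      obtain ⟨y, rfl⟩ := LinearMap.lTensor_surjective A (Submodule.mkQ_surjective _) z
      obtain ⟨x, rfl⟩ := hA y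
      rw [← LinearMap.lTensor_comp_apply, LinearMap.range_mkQ_comp, LinearMap.lTensor_zero,
        LinearMap.zero_apply]
    rw [this a, this b]
  haveI := key S hS
  haveI := key Rf hf
  haveI : Subsingleton (M ⧸ LinearMap.range g) := subsingleton_of_tensor hq inferInstance fun q =>
    isTors_of_map_eq_zero (f := f) (TensorProduct.mk R Rf _ 1)
      (Subsingleton.elim _ 0)
  intro m
  exact (Submodule.Quotient.mk_eq_zero _).mp
    (Subsingleton.elim (Submodule.Quotient.mk (p := LinearMap.range g) m) 0)

/-- Finitely many elements of `M` generate `A ⊗ M` when the latter is finite. -/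
theorem exists_finset_span {M : Type v} [AddCommGroup M] [Module R M] (A : Type u) [CommRing A]
    [Algebra R A] [Module.Finite A (A ⊗[R] M)] :
    ∃ s : Finset M, ∀ G : Submodule R M, (s : Set M) ⊆ G →
      Function.Surjective (G.subtype.lTensor A) := by
  classical
  obtain ⟨T, hT⟩ := Module.Finite.fg_top (R := A) (M := A ⊗[R] M)
  choose u hu using fun z : A ⊗[R] M => TensorProduct.exists_finset z
  refine ⟨T.biUnion fun z => (u z).image Prod.snd, fun G hG => ?_⟩
  have : LinearMap.range (G.subtype.baseChange A) = ⊤ := by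
    refine eq_top_iff.mpr (hT.symm.trans_le (Submodule.span_le.mpr fun z hz => ?_))
    rw [hu z]
    refine Submodule.sum_mem _ fun p hp => ?_
    refine ⟨p.1 ⊗ₜ ⟨p.2, hG ?_⟩, rfl⟩
    exact Finset.mem_coe.mpr (Finset.mem_biUnion.mpr ⟨z, hz, Finset.mem_image_of_mem _ hp⟩)
  exact fun z => LinearMap.range_eq_top.mp this z

theorem finite_of_tensor (hq : EtGlue.QuotPowBijective R S f) (Rf : Type u) [CommRing Rf]
    [Algebra R Rf] [IsLocalization.Away f Rf] (M : Type v) [AddCommGroup M]
    [Module R M] [Module.Finite S (S ⊗[R] M)]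
    [Module.Finite Rf (Rf ⊗[R] M)] : Module.Finite R M := by
  classical
  obtain ⟨s, hs⟩ := exists_finset_span (R := R) (M := M) S
  obtain ⟨t, ht⟩ := exists_finset_span (R := R) (M := M) Rf
  let G : Submodule R M := Submodule.span R ((s ∪ t : Finset M) : Set M)
  have hG := surjective_of_tensor hq Rf G.subtype
    (hs G fun x hx => Submodule.subset_span (Finset.mem_union_left _ hx))
    (ht G fun x hx => Submodule.subset_span (Finset.mem_union_right _ hx))
  exact ⟨⟨s ∪ t, eq_top_iff.mpr fun m _ => by obtain ⟨⟨x, hx⟩, rfl⟩ := hG m; exact hx⟩⟩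

theorem finite_baseChange_ker {n : ℕ} {M : Type u} [AddCommGroup M] [Module R M] [Module.Flat R M]
    (π : (Fin n → R) →ₗ[R] M) (hπ : Function.Surjective π) (A : Type u) [CommRing A] [Algebra R A]
    [Module.Finite A (A ⊗[R] M)] [Module.Projective A (A ⊗[R] M)] :
    Module.Finite A (A ⊗[R] LinearMap.ker π) := by
  haveI := Module.finitePresentation_of_projective A (A ⊗[R] M)
  have hfg : (LinearMap.ker (π.baseChange A)).FG :=
    Module.FinitePresentation.fg_ker _ (LinearMap.lTensor_surjective A hπ)
  haveI : Module.Finite A (LinearMap.ker (π.baseChange A)) := .of_fg hfg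
  have hexact := lTensor_exact A (LinearMap.exact_subtype_ker_map π) hπ
  have hinj : Function.Injective ((LinearMap.ker π).subtype.baseChange A) :=
    LinearMap.lTensor_injective_of_exact_of_flat π hπ _ Subtype.val_injective
      (LinearMap.exact_subtype_ker_map π) A
  let c : A ⊗[R] LinearMap.ker π →ₗ[A] LinearMap.ker (π.baseChange A) :=
    ((LinearMap.ker π).subtype.baseChange A).codRestrict _ fun x => hexact.apply_apply_eq_zero x
  refine Module.Finite.equiv (LinearEquiv.ofBijective c ⟨fun a b hab => hinj (congrArg Subtype.val hab),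
    fun y => ?_⟩).symm
  obtain ⟨x, hx⟩ := (hexact y.1).mp y.2
  exact ⟨x, Subtype.ext hx⟩

theorem finite_projective_iff_of_glueingPair (hRR : EtGlue.IsGlueingPair R S f) (M : Type u)
    [AddCommGroup M] [Module R M] :
    (Module.Finite R M ∧ Module.Projective R M) ↔
      (Module.Finite S (S ⊗[R] M) ∧ Module.Projective S (S ⊗[R] M)) ∧
      (Module.Finite (Localization.Away f) (LocalizedModule (Submonoid.powers f) M) ∧
        Module.Projective (Localization.Away f) (LocalizedModule (Submonoid.powers f) M)) := by
  let e : LocalizedModule (Submonoid.powers f) M ≃ₗ[Localization.Away f]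
      Localization.Away f ⊗[R] M := LocalizedModule.equivTensorProduct (Submonoid.powers f) M
  refine ⟨fun ⟨_, _⟩ => ⟨⟨inferInstance, inferInstance⟩,
    Module.Finite.equiv e.symm, Module.Projective.of_equiv e.symm⟩, fun ⟨⟨_, _⟩, _, _⟩ => ?_⟩
  haveI : Module.Finite (Localization.Away f) (Localization.Away f ⊗[R] M) := Module.Finite.equiv e
  haveI : Module.Projective (Localization.Away f) (Localization.Away f ⊗[R] M) :=
    Module.Projective.of_equiv e
  haveI : Module.Flat R M := (flat_iff_of_glueingPair hRR).mpr ⟨inferInstance, inferInstance⟩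
  haveI := finite_of_tensor hRR.1 (Localization.Away f) M
  obtain ⟨n, π, hπ⟩ := Module.Finite.exists_fin' R M
  haveI := finite_baseChange_ker π hπ S
  haveI := finite_baseChange_ker π hπ (Localization.Away f)
  haveI := finite_of_tensor hRR.1 (Localization.Away f) (LinearMap.ker π)
  haveI := Module.finitePresentation_of_surjective π hπ (Module.Finite.iff_fg.mp inferInstance)
  exact ⟨inferInstance, Module.Flat.projective_of_finitePresentation⟩

end Groth.Agent.Glue
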