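import Groth.Agent.Lib.Glue.Torsion
import Mathlib.RingTheory.Flat.Tensor
import Mathlib.RingTheory.Flat.Stability
import Mathlib.RingTheory.Flat.Equalizer
import Mathlib.LinearAlgebra.TensorProduct.Basis
import Mathlib.LinearAlgebra.Finsupp.LinearCombination

/-!
# Flatness descends along a glueing pair
-/

universe u v w

open TensorProduct

namespace Groth.Agent.Glue

variable {R S : Type u} [CommRing R] [CommRing S] [Algebra R S] {f : R}
  {M : Type u} [AddCommGroup M] [Module R M]

theorem isTors_tensor {U : Type v} [AddCommGroup U] [Module R U] (hU : ∀ u : U, IsTors f u)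
    (z : U ⊗[R] M) : IsTors f z := by
  induction z with
  | zero => exact ⟨0, smul_zero _⟩
  | tmul a b =>
    obtain ⟨n, hn⟩ := hU a
    exact ⟨n, by rw [smul_tmul', hn, zero_tmul]⟩
  | add a b ha hb =>
    obtain ⟨n, hn⟩ := ha
    obtain ⟨k, hk⟩ := hb
    exact ⟨n + k, by rw [smul_add, pow_add, mul_smul, mul_smul, hk, smul_comm, hn, smul_zero,
      smul_zero, add_zero]⟩

/-- Tensoring with `M` preserves injectivity of maps out of torsion modules. -/
theorem rTensor_injective_of_tors (hq : EtGlue.QuotPowBijective R S f)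
    [Module.Flat S (S ⊗[R] M)] {U V : Type u} [AddCommGroup U] [Module R U] [AddCommGroup V]
    [Module R V] (g : U →ₗ[R] V) (hU : ∀ u : U, IsTors f u)
    (hg : ∀ u : U, (1 : S) ⊗ₜ[R] g u = 0 → u = 0) : Function.Injective (g.rTensor M) := by
  have hgS : Function.Injective (g.baseChange S) := by
    refine (injective_iff_map_eq_zero _).mpr fun x hx => ?_
    obtain ⟨u, rfl⟩ := surjective_one_tmul hq hU x
    rw [TensorProduct.mk_apply, LinearMap.baseChange_tmul] at hx
    rw [hg u hx, map_zero]
  have h1 := Module.Flat.rTensor_preserves_injective_linearMap (M := S ⊗[R] M) _ hgS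
  let eU := TensorProduct.AlgebraTensorModule.distribBaseChange R S U M
  let eV := TensorProduct.AlgebraTensorModule.distribBaseChange R S V M
  have hcomm : ∀ z : S ⊗[R] (U ⊗[R] M),
      eV ((g.rTensor M).lTensor S z) = (g.baseChange S).rTensor (S ⊗[R] M) (eU z) := by
    intro z
    induction z with
    | zero => simp
    | add a b ha hb => simp only [map_add, ha, hb]
    | tmul s x =>
      induction x with
      | zero => simp
      | add a b ha hb => simp only [tmul_add, map_add, ha, hb]
      | tmul a b => simp [eU, eV, TensorProduct.AlgebraTensorModule.distribBaseChange]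
  refine (injective_iff_map_eq_zero _).mpr fun z hz => ?_
  refine injective_one_tmul hq (isTors_tensor hU) (eU.injective (h1 ?_))
  rw [map_zero, map_zero, map_zero, TensorProduct.mk_apply, ← hcomm, LinearMap.lTensor_tmul, hz,
    tmul_zero, map_zero]

section Glueable

variable (hRR : EtGlue.IsGlueingPair R S f) (hM : EtGlue.IsGlueable R S f M)
  [Module.Flat S (S ⊗[R] M)]

include hRR hM

/-- `M[f^n] = R[f^n] • M`, in a form adapted to tensor products. -/
theorem tmul_eq_zero_of_torsion {P : Type u} [AddCommGroup P] [Module R P] (n : ℕ) (p : P)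
    (hp : ∀ a : R, f ^ n * a = 0 → a • p = 0) (m : M) (hm : f ^ n • m = 0) :
    p ⊗ₜ[R] m = 0 := by
  let μ : S →ₗ[S] S := LinearMap.lsmul S S (algebraMap R S (f ^ n))
  have hex := Module.Flat.rTensor_exact (S ⊗[R] M) (LinearMap.exact_subtype_ker_map μ)
  have h0 : μ.rTensor (S ⊗[R] M) ((1 : S) ⊗ₜ ((1 : S) ⊗ₜ[R] m)) = 0 := by
    rw [LinearMap.rTensor_tmul, LinearMap.lsmul_apply, smul_tmul, algebraMap_smul,
      ← tmul_smul, hm, tmul_zero, tmul_zero]
  obtain ⟨z, hz⟩ := (hex _).mp h0
  have key : ∀ z : (LinearMap.ker μ) ⊗[S] (S ⊗[R] M), ∃ m' : M,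
      TensorProduct.lid S (S ⊗[R] M) ((LinearMap.ker μ).subtype.rTensor _ z) = (1 : S) ⊗ₜ[R] m' ∧
      f ^ n • m' = 0 ∧ p ⊗ₜ[R] m' = 0 := by
    intro z
    induction z with
    | zero => exact ⟨0, by simp, smul_zero _, tmul_zero _ _⟩
    | tmul k x =>
      obtain ⟨k, hk⟩ := k
      rw [LinearMap.mem_ker, LinearMap.lsmul_apply, smul_eq_mul] at hk
      obtain ⟨a, ⟨j, hj⟩, ha⟩ := ring_torsion_surj hRR k ⟨n, by rw [Algebra.smul_def, hk]⟩
      have hna : f ^ n * a = 0 :=
        ring_torsion_inj hRR _ ⟨j, by rw [smul_eq_mul] at hj ⊢; rw [mul_left_comm, hj, mul_zero]⟩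
          (by rw [map_mul, ha, hk])
      obtain ⟨m₁, x', rfl⟩ := exists_one_tmul_add hRR.1 n x
      refine ⟨a • m₁, ?_, by rw [← mul_smul, hna, zero_smul],
        by rw [← smul_tmul, hp a hna, zero_tmul]⟩
      show TensorProduct.lid S (S ⊗[R] M) (k ⊗ₜ[S] ((1 : S) ⊗ₜ[R] m₁ + f ^ n • x')) = _
      rw [TensorProduct.lid_tmul, ← ha, algebraMap_smul, smul_add, ← mul_smul, mul_comm a, hna,
        zero_smul, add_zero, tmul_smul]
    | add a b ha hb =>
      obtain ⟨m₁, h₁, h₁', h₁''⟩ := ha
      obtain ⟨m₂, h₂, h₂', h₂''⟩ := hb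
      exact ⟨m₁ + m₂, by rw [map_add, map_add, h₁, h₂, tmul_add],
        by rw [smul_add, h₁', h₂', add_zero], by rw [tmul_add, h₁'', h₂'', add_zero]⟩
  obtain ⟨m', hm', hm'n, hpm'⟩ := key z
  rw [hz, TensorProduct.lid_tmul, one_smul] at hm'
  rw [sub_eq_zero.mp (eq_zero_of_isGlueable hM (m - m')
    ⟨n, by rw [smul_sub, hm, hm'n, sub_zero]⟩ (by rw [tmul_sub, hm', sub_self])), hpm']

theorem rTensor_subtype_injective_of_free {F : Type u} [AddCommGroup F] [Module R F]
    [Module.Free R F] (n : ℕ) (U : Submodule R F) (hU : ∀ v : F, f ^ n • v ∈ U) :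
    Function.Injective (U.subtype.rTensor M) := by
  refine (injective_iff_map_eq_zero _).mpr fun z hz => ?_
  let π : F →ₗ[R] U := LinearMap.codRestrict U (f ^ n • LinearMap.id) hU
  have hπ : ∀ v, U.subtype (π v) = f ^ n • v := fun v => rfl
  let W : Submodule R F := LinearMap.range (U.subtype.comp π)
  let g : (U ⧸ LinearMap.range π) →ₗ[R] F ⧸ W := Submodule.mapQ _ W U.subtype (by
    rintro _ ⟨v, rfl⟩; exact ⟨v, rfl⟩)
  have hW : ∀ q : F ⧸ W, IsTors f q := fun q => by
    obtain ⟨v, rfl⟩ := Submodule.Quotient.mk_surjective W q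
    exact ⟨n, (Submodule.Quotient.mk_eq_zero W).mpr ⟨v, hπ v⟩⟩
  have hg0 : ∀ q, g q = 0 → q = 0 := fun q hq0 => by
    obtain ⟨u, rfl⟩ := Submodule.Quotient.mk_surjective _ q
    obtain ⟨v, hv⟩ := (Submodule.Quotient.mk_eq_zero W).mp hq0
    exact (Submodule.Quotient.mk_eq_zero _).mpr ⟨v, Subtype.ext hv⟩
  have hQtors : ∀ q : U ⧸ LinearMap.range π, IsTors f q := fun q => by
    obtain ⟨k, hk⟩ := hW (g q)
    exact ⟨k, hg0 _ (by rw [map_smul, hk])⟩
  have hginj := rTensor_injective_of_tors (M := M) hRR.1 g hQtors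
    fun q hq0 => hg0 q (injective_one_tmul hRR.1 hW (hq0.trans (map_zero _).symm))
  have hz' : (LinearMap.range π).mkQ.rTensor M z = 0 := hginj (by
    rw [map_zero, ← LinearMap.rTensor_comp_apply,
      show g.comp (LinearMap.range π).mkQ = W.mkQ.comp U.subtype from Submodule.mapQ_mkQ _ _ _,
      LinearMap.rTensor_comp_apply, hz, map_zero])
  obtain ⟨y, rfl⟩ := (rTensor_exact M (LinearMap.exact_map_mkQ_range π)
    (Submodule.mkQ_surjective _) z).mp hz'
  have hy : f ^ n • y = 0 := by
    rw [← LinearMap.rTensor_comp_apply,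
      show U.subtype.comp π = f ^ n • LinearMap.id from LinearMap.ext hπ,
      LinearMap.rTensor_smul, LinearMap.smul_apply, LinearMap.rTensor_id, LinearMap.id_apply] at hz
    exact hz
  classical
  let b := Module.Free.chooseBasis R F
  let e := TensorProduct.equivFinsuppOfBasisLeft (N := M) b
  rw [← e.symm_apply_apply y, TensorProduct.equivFinsuppOfBasisLeft_symm_apply, Finsupp.sum, map_sum]
  refine Finset.sum_eq_zero fun i _ => ?_
  show π.rTensor M (b i ⊗ₜ[R] e y i) = 0
  rw [LinearMap.rTensor_tmul]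
  refine tmul_eq_zero_of_torsion hRR hM n _ (fun a ha => Subtype.ext ?_) _ ?_
  · show a • (f ^ n • b i) = 0
    rw [← mul_smul, mul_comm, ha, zero_smul]
  · rw [← Finsupp.smul_apply, ← map_smul, hy, map_zero, Finsupp.zero_apply]

theorem rTensor_subtype_injective {V : Type u} [AddCommGroup V] [Module R V] (n : ℕ)
    (U : Submodule R V) (hU : ∀ v : V, f ^ n • v ∈ U) : Function.Injective (U.subtype.rTensor M) := by
  let p : (V →₀ R) →ₗ[R] V := Finsupp.linearCombination R id
  have hp : Function.Surjective p := fun v => ⟨Finsupp.single v 1, by simp [p]⟩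
  let U' := U.comap p
  let p' : U' →ₗ[R] U := p.restrict fun x hx => hx
  have hp' : Function.Surjective p' := fun u => by
    obtain ⟨x, hx⟩ := hp u
    exact ⟨⟨x, by show p x ∈ U; rw [hx]; exact u.2⟩, Subtype.ext hx⟩
  have hfree := rTensor_subtype_injective_of_free hRR hM n U' fun x => by
    show p (f ^ n • x) ∈ U
    rw [map_smul]; exact hU _
  let j : LinearMap.ker p →ₗ[R] U' :=
    Submodule.inclusion fun x hx => by show p x ∈ U; rw [LinearMap.mem_ker.mp hx]; exact U.zero_mem
  refine (injective_iff_map_eq_zero _).mpr fun z hz => ?_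
  obtain ⟨z', rfl⟩ := LinearMap.rTensor_surjective M hp' z
  have hex : Function.Exact (LinearMap.ker p).subtype p := LinearMap.exact_subtype_ker_map p
  obtain ⟨k, hk⟩ := (rTensor_exact (M := ↥(LinearMap.ker p)) M (f := (LinearMap.ker p).subtype) (g := p) hex hp
    (U'.subtype.rTensor M z')).mp (by
      rw [← LinearMap.rTensor_comp_apply,
        show p.comp U'.subtype = U.subtype.comp p' from rfl, LinearMap.rTensor_comp_apply, hz])
  have : z' = j.rTensor M k := hfree (by
    rw [← hk, ← LinearMap.rTensor_comp_apply, Submodule.subtype_comp_inclusion])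
  rw [this, ← LinearMap.rTensor_comp_apply,
    show p'.comp j = 0 from LinearMap.ext fun x => Subtype.ext x.2, LinearMap.rTensor_zero,
    LinearMap.zero_apply]

theorem flat_of_glueable
    (htor : ∀ (I : Ideal R) (x : I ⊗[R] M), I.subtype.rTensor M x = 0 → IsTors f x) :
    Module.Flat R M := by
  refine Module.Flat.iff_rTensor_injective'.mpr fun I =>
    (injective_iff_map_eq_zero _).mpr fun x hx => ?_
  obtain ⟨n, hn⟩ := htor I x hx
  let δ : I →ₗ[R] I := f ^ n • LinearMap.id
  have hδ : δ.rangeRestrict.rTensor M x = 0 := by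
    refine rTensor_subtype_injective hRR hM n (LinearMap.range δ) (fun v => ⟨v, rfl⟩) ?_
    rw [map_zero, ← LinearMap.rTensor_comp_apply, show (LinearMap.range δ).subtype.comp δ.rangeRestrict = δ from rfl,
      LinearMap.rTensor_smul, LinearMap.smul_apply, LinearMap.rTensor_id, LinearMap.id_apply, hn]
  obtain ⟨k, rfl⟩ := (rTensor_exact M (g := δ.rangeRestrict) (f := (LinearMap.ker δ).subtype)
    (by rw [LinearMap.exact_iff, LinearMap.ker_rangeRestrict, Submodule.range_subtype])
    δ.surjective_rangeRestrict x).mp hδ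
  have htors : ∀ u : LinearMap.ker δ, IsTors f u := fun u => ⟨n, Subtype.ext u.2⟩
  have hinj := rTensor_injective_of_tors (M := M) hRR.1 (I.subtype.comp (LinearMap.ker δ).subtype)
    htors fun u hu => by
      obtain ⟨j, hj⟩ := htors u
      refine Subtype.ext (Subtype.ext (ring_torsion_inj hRR _ ⟨j, ?_⟩ ?_))
      · exact congrArg (fun v : LinearMap.ker δ => ((v : I) : R)) hj
      · have := congrArg (TensorProduct.rid R S) hu
        rwa [TensorProduct.rid_tmul, map_zero, ← Algebra.algebraMap_eq_smul_one] at this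
  rw [← LinearMap.rTensor_comp_apply] at hx
  rw [hinj (hx.trans (map_zero _).symm), map_zero]

end Glueable

end Groth.Agent.Glue
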