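import Groth.Agent.Lib.Glue.Flat
import Mathlib.RingTheory.Flat.Localization

/-!
# A module is flat if its two base changes along a glueing pair are
-/

universe u

open TensorProduct

namespace Groth.Agent.Glue

variable {R S : Type u} [CommRing R] [CommRing S] [Algebra R S] {f : R}
  {M : Type u} [AddCommGroup M] [Module R M]

theorem flat_of_tensor (hRR : EtGlue.IsGlueingPair R S f) [Module.Flat S (S ⊗[R] M)]
    (htor : ∀ (I : Ideal R) (x : I ⊗[R] M), I.subtype.rTensor M x = 0 → IsTors f x) :
    Module.Flat R M := by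
  let lM := LocalizedModule.mkLinearMap (Submonoid.powers f) M
  let D : Submodule R M := LinearMap.ker (TensorProduct.mk R S M 1) ⊓ LinearMap.ker lM
  have hD : ∀ d : M, d ∈ D → (1 : S) ⊗ₜ[R] d = 0 ∧ lM d = 0 := fun d hd => ⟨hd.1, hd.2⟩
  have hD0 : D.subtype.lTensor S = 0 := TensorProduct.ext' fun s d => by
    rw [LinearMap.lTensor_tmul, LinearMap.zero_apply, Submodule.subtype_apply,
      show s = s • (1 : S) by rw [smul_eq_mul, mul_one], ← smul_tmul', (hD _ d.2).1, smul_zero]
  have hbij : Function.Bijective (D.mkQ.baseChange S) := by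
    refine ⟨(injective_iff_map_eq_zero _).mpr fun z hz => ?_,
      LinearMap.lTensor_surjective S (Submodule.mkQ_surjective D)⟩
    obtain ⟨y, rfl⟩ := (lTensor_exact S (LinearMap.exact_subtype_mkQ D)
      (Submodule.mkQ_surjective D) z).mp hz
    rw [hD0, LinearMap.zero_apply]
  haveI : Module.Flat S (S ⊗[R] (M ⧸ D)) :=
    Module.Flat.of_linearEquiv (LinearEquiv.ofBijective _ hbij).symm
  have hglue : EtGlue.IsGlueable R S f (M ⧸ D) := by
    refine (isGlueable_iff_inj hRR).mpr fun q hq h1 => ?_
    obtain ⟨m, rfl⟩ := Submodule.Quotient.mk_surjective D q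
    obtain ⟨k, hk⟩ := hq
    refine (Submodule.Quotient.mk_eq_zero D).mpr ⟨?_, ?_⟩
    · refine hbij.1 ?_
      rw [TensorProduct.mk_apply, LinearMap.baseChange_tmul, map_zero]
      exact h1
    · refine pow_smul_injective (f := f) lM k ?_
      show f ^ k • lM m = f ^ k • 0
      rw [smul_zero, ← map_smul]
      exact (hD _ ((Submodule.Quotient.mk_eq_zero D).mp hk)).2
  haveI : Module.Flat R (M ⧸ D) := flat_of_glueable hRR hglue fun I x hx => by
    obtain ⟨x, rfl⟩ := LinearMap.lTensor_surjective I (Submodule.mkQ_surjective D) x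
    set r := TensorProduct.lid R M (I.subtype.rTensor M x)
    have hcomm : TensorProduct.lid R (M ⧸ D) (I.subtype.rTensor (M ⧸ D) (D.mkQ.lTensor I x)) =
        D.mkQ r := by
      simp only [r]
      clear hx r
      induction x with
      | zero => simp
      | tmul a b => simp
      | add a b ha hb => simp only [map_add, ha, hb]
    rw [hx, map_zero] at hcomm
    obtain ⟨j, hj⟩ := isTors_of_map_eq_zero (f := f) lM
      (hD r ((Submodule.Quotient.mk_eq_zero D).mp hcomm.symm)).2
    obtain ⟨k, hk⟩ := htor I (f ^ j • x) ((TensorProduct.lid R M).injective (by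
      rw [map_smul, map_smul, map_zero]; exact hj))
    exact ⟨k + j, by rw [← map_smul, pow_add, mul_smul, hk, map_zero]⟩
  have hinj : Function.Injective (D.subtype.lTensor S) :=
    LinearMap.lTensor_injective_of_exact_of_flat D.mkQ (Submodule.mkQ_surjective D) D.subtype
      D.subtype_injective (LinearMap.exact_subtype_mkQ D) S
  haveI : Subsingleton D := subsingleton_of_tensor hRR.1
    ⟨fun a b => hinj (by rw [hD0]; rfl)⟩ fun d => by
      obtain ⟨k, hk⟩ := isTors_of_map_eq_zero (f := f) lM (hD _ d.2).2
      exact ⟨k, Subtype.ext hk⟩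
  exact Module.Flat.of_linearEquiv (Submodule.quotEquivOfEqBot D
    (Submodule.eq_bot_of_subsingleton)).symm

/-- The torsion hypothesis holds when `M_f` is flat over `R_f`. -/
theorem isTors_of_flat_localization
    [Module.Flat (Localization.Away f) (LocalizedModule (Submonoid.powers f) M)]
    (I : Ideal R) (x : I ⊗[R] M) (hx : I.subtype.rTensor M x = 0) : IsTors f x := by
  haveI : Module.Flat R (Localization.Away f) :=
    IsLocalization.flat (Localization.Away f) (Submonoid.powers f)
  haveI : Module.Flat R (LocalizedModule (Submonoid.powers f) M) :=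
    Module.Flat.trans R (Localization.Away f) _
  let lM := LocalizedModule.mkLinearMap (Submonoid.powers f) M
  refine isTors_of_lTensor_eq_zero I lM
    (Module.Flat.rTensor_preserves_injective_linearMap I.subtype I.subtype_injective ?_)
  rw [map_zero, ← LinearMap.comp_apply (f := I.subtype.rTensor _), LinearMap.rTensor_comp_lTensor,
    ← LinearMap.lTensor_comp_rTensor, LinearMap.comp_apply, hx, map_zero]

theorem flat_iff_of_glueingPair (hRR : EtGlue.IsGlueingPair R S f) :
    Module.Flat R M ↔ Module.Flat S (S ⊗[R] M) ∧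
      Module.Flat (Localization.Away f) (LocalizedModule (Submonoid.powers f) M) := by
  refine ⟨fun _ => ⟨inferInstance, ?_⟩, fun ⟨_, _⟩ => flat_of_tensor hRR isTors_of_flat_localization⟩
  exact Module.Flat.of_linearEquiv (LocalizedModule.equivTensorProduct (Submonoid.powers f) M)

end Groth.Agent.Glue
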