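import Groth.Prelude.Def_EtGlue
import Mathlib.RingTheory.Flat.Basic
import Mathlib.RingTheory.Ideal.Operations
import Mathlib.LinearAlgebra.TensorProduct.RightExactness
import Mathlib.LinearAlgebra.TensorProduct.Quotient
import Mathlib.RingTheory.Finiteness.Ideal

/-!
# `I`-power torsion along a flat map with `R/I ≅ S/IS`
-/

universe u v

open TensorProduct

namespace Groth.Agent.Glue

variable {R S : Type u} [CommRing R] [CommRing S] [Algebra R S] {I : Ideal R}
  {M : Type v} [AddCommGroup M] [Module R M]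
  (hq : Function.Bijective
    (Ideal.quotientMap (I.map (algebraMap R S)) (algebraMap R S) Ideal.le_comap_map))

include hq

theorem eq_zero_of_pow_smul_eq_zero [Module.Flat R S] {m : M} {n : ℕ}
    (hm : ∀ a ∈ I ^ n, a • m = 0) (h : (1 : S) ⊗ₜ[R] m = 0) : m = 0 := by
  let g := LinearMap.toSpanSingleton R M m
  let J := LinearMap.ker g
  have hinj : Function.Injective (J.liftQ g le_rfl) :=
    LinearMap.ker_eq_bot.mp (Submodule.ker_liftQ_eq_bot _ _ _ le_rfl)
  have h1 : (1 : S) ⊗ₜ[R] (J.mkQ 1) = 0 :=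
    Module.Flat.lTensor_preserves_injective_linearMap (M := S) _ hinj (by
      rw [map_zero, LinearMap.lTensor_tmul, Submodule.mkQ_apply, Submodule.liftQ_apply]
      show (1 : S) ⊗ₜ[R] ((1 : R) • m) = 0
      rw [one_smul, h])
  obtain ⟨z, hz⟩ := (lTensor_exact S (LinearMap.exact_subtype_mkQ J)
    (Submodule.mkQ_surjective J) ((1 : S) ⊗ₜ[R] (1 : R))).mp (by rw [LinearMap.lTensor_tmul, h1])
  have hJ : ∀ y : S ⊗[R] J, TensorProduct.rid R S (J.subtype.lTensor S y) ∈
      Ideal.map (algebraMap R S) J := by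
    intro y
    induction y with
    | zero => simp
    | tmul s a =>
      rw [LinearMap.lTensor_tmul, TensorProduct.rid_tmul, Algebra.smul_def]
      exact Ideal.mul_mem_right _ _ (Ideal.mem_map_of_mem _ a.2)
    | add a b ha hb => rw [map_add, map_add]; exact Ideal.add_mem _ ha hb
  have hone : (1 : S) ∈ Ideal.map (algebraMap R S) J := by
    have := hJ z
    rwa [hz, TensorProduct.rid_tmul, one_smul] at this
  let e := Ideal.quotientMap (I.map (algebraMap R S)) (algebraMap R S) Ideal.le_comap_map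
  have htop : Ideal.map e (Ideal.map (Ideal.Quotient.mk I) J) = ⊤ := by
    have he : e.comp (Ideal.Quotient.mk I) = (Ideal.Quotient.mk _).comp (algebraMap R S) :=
      Ideal.quotientMap_comp_mk _
    rw [Ideal.map_map, he, ← Ideal.map_map, Ideal.eq_top_iff_one,
      ← map_one (Ideal.Quotient.mk (I.map (algebraMap R S)))]
    exact Ideal.mem_map_of_mem _ hone
  have htop' : Ideal.map (Ideal.Quotient.mk I) J = ⊤ := by
    have := congrArg (Ideal.comap e) htop
    rwa [Ideal.comap_map_of_bijective e hq, Ideal.comap_top] at this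
  obtain ⟨a, ha, ha1⟩ := (Ideal.mem_map_iff_of_surjective _ Ideal.Quotient.mk_surjective).mp
    ((Ideal.eq_top_iff_one _).mp htop')
  have hb : 1 - a ∈ I := by rw [← Ideal.Quotient.eq, ha1, map_one]
  have hfix : ∀ k : ℕ, (1 - a) ^ k • m = m := by
    intro k
    induction k with
    | zero => rw [pow_zero, one_smul]
    | succ k ih =>
      rw [pow_succ', mul_smul, ih, sub_smul, one_smul, show a • m = 0 from LinearMap.mem_ker.mp ha,
        sub_zero]
  rw [← hfix n, hm _ (Ideal.pow_mem_pow hb n)]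

omit [AddCommGroup M] [Module R M] in
theorem exists_sub_mem (s : S) : ∃ r : R, s - algebraMap R S r ∈ I.map (algebraMap R S) := by
  obtain ⟨q, hq'⟩ := hq.2 (Ideal.Quotient.mk _ s)
  obtain ⟨r, rfl⟩ := Ideal.Quotient.mk_surjective q
  rw [Ideal.quotientMap_mk] at hq'
  exact ⟨r, Ideal.Quotient.eq.mp hq'.symm⟩

/-- Pure tensors with an `I`-power torsion element come from `M`. -/
theorem exists_one_tmul_eq_of_pow_smul (n : ℕ) : ∀ (s : S) (m : M), (∀ a ∈ I ^ n, a • m = 0) →
    ∃ m' : M, (1 : S) ⊗ₜ[R] m' = s ⊗ₜ[R] m ∧ ∀ a ∈ I ^ n, a • m' = 0 := by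
  induction n with
  | zero =>
    intro s m hm
    have : m = 0 := by simpa using hm 1 (by simp)
    exact ⟨0, by simp [this], fun a _ => smul_zero a⟩
  | succ n ih =>
    intro s m hm
    obtain ⟨r, hr⟩ := exists_sub_mem hq s
    have key : ∀ t ∈ I.map (algebraMap R S), ∃ m' : M, (1 : S) ⊗ₜ[R] m' = t ⊗ₜ[R] m ∧
        ∀ a ∈ I ^ n, a • m' = 0 := by
      intro t ht
      induction ht using Submodule.span_induction with
      | mem x hx =>
        obtain ⟨b, hb, rfl⟩ := hx
        refine ⟨b • m, ?_, fun a ha => ?_⟩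
        · rw [TensorProduct.tmul_smul, TensorProduct.smul_tmul', Algebra.smul_def, mul_one]
        · rw [← mul_smul]; exact hm _ (by rw [pow_succ]; exact Ideal.mul_mem_mul ha hb)
      | zero => exact ⟨0, by simp, fun a _ => smul_zero a⟩
      | add x y _ _ hx hy =>
        obtain ⟨m₁, e₁, h₁⟩ := hx
        obtain ⟨m₂, e₂, h₂⟩ := hy
        exact ⟨m₁ + m₂, by rw [tmul_add, e₁, e₂, add_tmul],
          fun a ha => by rw [smul_add, h₁ a ha, h₂ a ha, add_zero]⟩
      | smul c x _ hx =>
        obtain ⟨m₁, e₁, h₁⟩ := hx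
        obtain ⟨m₂, e₂, h₂⟩ := ih c m₁ h₁
        exact ⟨m₂, by rw [e₂, smul_eq_mul, ← smul_eq_mul c x, ← smul_tmul', ← e₁, smul_tmul',
          smul_eq_mul, mul_one], h₂⟩
    obtain ⟨m₁, e₁, h₁⟩ := key _ hr
    refine ⟨r • m + m₁, ?_, fun a ha => ?_⟩
    · rw [tmul_add, e₁, sub_tmul, TensorProduct.tmul_smul, TensorProduct.smul_tmul',
        Algebra.smul_def, mul_one, add_sub_cancel]
    · rw [smul_add, h₁ a (Ideal.pow_le_pow_right n.le_succ ha), smul_comm, hm a ha, smul_zero,
        add_zero]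

theorem surjective_one_tmul_of_pow_smul (htors : ∀ m : M, ∃ n : ℕ, ∀ a ∈ I ^ n, a • m = 0) :
    Function.Surjective (TensorProduct.mk R S M 1) := by
  intro x
  induction x with
  | zero => exact ⟨0, map_zero _⟩
  | tmul s m =>
    obtain ⟨n, hn⟩ := htors m
    obtain ⟨m', e, -⟩ := exists_one_tmul_eq_of_pow_smul hq n s m hn
    exact ⟨m', e⟩
  | add x y hx hy =>
    obtain ⟨a, rfl⟩ := hx
    obtain ⟨b, rfl⟩ := hy
    exact ⟨a + b, map_add _ _ _⟩

end Groth.Agent.Glue
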