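import Groth.Agent.Lib.Glue.Finite
import Mathlib.RingTheory.FiniteStability
import Mathlib.RingTheory.Kaehler.TensorProduct
import Mathlib.RingTheory.Smooth.Fiber
import Mathlib.RingTheory.RingHom.Etale
import Mathlib.RingTheory.RingHom.FinitePresentation

/-!
# Properties of an algebra along a glueing pair
-/

universe u

open TensorProduct

attribute [local instance] Algebra.TensorProduct.rightAlgebra

namespace Groth.Agent.Glue

variable {R S : Type u} [CommRing R] [CommRing S] [Algebra R S] {f : R}
  {B : Type u} [CommRing B] [Algebra R B]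

/-- Quotients modulo powers of `f` still agree over an `R`-algebra. -/
theorem quotPowBijective_tensor (hq : EtGlue.QuotPowBijective R S f) (A : Type u) [CommRing A]
    [Algebra R A] : EtGlue.QuotPowBijective A (S ⊗[R] A) (algebraMap R A f) := by
  intro n _
  have hsm : ∀ x : S ⊗[R] A, f ^ n • x = algebraMap A (S ⊗[R] A) (algebraMap R A f ^ n) * x := by
    intro x
    rw [← map_pow, Algebra.smul_def, ← IsScalarTower.algebraMap_apply]
  refine ⟨(injective_iff_map_eq_zero _).mpr fun q h => ?_, fun q => ?_⟩
  · obtain ⟨a, rfl⟩ := Ideal.Quotient.mk_surjective q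
    rw [Ideal.quotientMap_mk, Ideal.Quotient.eq_zero_iff_mem, Ideal.map_span, Set.image_singleton,
      Ideal.mem_span_singleton'] at h
    obtain ⟨c, hc⟩ := h
    rw [mul_comm, ← hsm, Algebra.TensorProduct.algebraMap_eq_includeRight] at hc
    obtain ⟨μ, hμ⟩ := exists_eq_smul_of_one_tmul hq n a c hc.symm
    rw [Ideal.Quotient.eq_zero_iff_mem, Ideal.mem_span_singleton', hμ]
    exact ⟨μ, by rw [Algebra.smul_def, map_pow, mul_comm]⟩
  · obtain ⟨x, rfl⟩ := Ideal.Quotient.mk_surjective q
    obtain ⟨a, x', rfl⟩ := exists_one_tmul_add hq n x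
    refine ⟨Ideal.Quotient.mk _ a, ?_⟩
    rw [Ideal.quotientMap_mk, Ideal.Quotient.eq, Ideal.map_span, Set.image_singleton,
      Ideal.mem_span_singleton']
    refine ⟨-x', ?_⟩
    rw [Algebra.TensorProduct.algebraMap_eq_includeRight, hsm]
    show -x' * _ = (1 : S) ⊗ₜ[R] a - _
    rw [Algebra.TensorProduct.algebraMap_eq_includeRight]
    ring

theorem isGlueingPair_tensor (hRR : EtGlue.IsGlueingPair R S f) (A : Type u) [CommRing A]
    [Algebra R A] (hA : EtGlue.IsGlueable R S f A) :
    EtGlue.IsGlueingPair A (S ⊗[R] A) (algebraMap R A f) := by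
  have ht : ∀ {X : Type u} [AddCommGroup X] [Module R X] [Module A X] [IsScalarTower R A X] (x : X),
      IsTors (algebraMap R A f) x ↔ IsTors f x := by
    intro X _ _ _ _ x
    simp only [IsTors, ← map_pow, algebraMap_smul]
  refine isGlueingPair_of_torsion (quotPowBijective_tensor hRR.1 A) (fun a ha h0 => ?_) fun x hx => ?_
  · exact eq_zero_of_isGlueable hA a ((ht a).mp ha) h0
  · obtain ⟨a, ha, h⟩ := exists_of_isGlueable hA x ((ht x).mp hx)
    exact ⟨a, (ht a).mpr ha, h⟩

variable (hq : EtGlue.QuotPowBijective R S f) (Rf : Type u) [CommRing Rf] [Algebra R Rf]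
  [IsLocalization.Away f Rf]

include hq

theorem surjective_algebraMap (hS : Function.Surjective (algebraMap S (S ⊗[R] B)))
    (hf : Function.Surjective (algebraMap Rf (Rf ⊗[R] B))) :
    Function.Surjective (algebraMap R B) := by
  have key : ∀ (A : Type u) [CommRing A] [Algebra R A],
      Function.Surjective (algebraMap A (A ⊗[R] B)) →
        Function.Surjective ((Algebra.linearMap R B).lTensor A) := by
    intro A _ _ h z
    obtain ⟨a, rfl⟩ := h z
    exact ⟨a ⊗ₜ 1, by simp⟩
  exact surjective_of_tensor hq Rf (Algebra.linearMap R B) (key S hS) (key Rf hf)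

theorem finiteType_of_tensor [Algebra.FiniteType S (S ⊗[R] B)]
    [Algebra.FiniteType Rf (Rf ⊗[R] B)] : Algebra.FiniteType R B := by
  classical
  have key : ∀ (A : Type u) [CommRing A] [Algebra R A] [Algebra.FiniteType A (A ⊗[R] B)],
      ∃ s : Finset B, ∀ G : Subalgebra R B, (s : Set B) ⊆ G →
        Function.Surjective (G.val.toLinearMap.lTensor A) := by
    intro A _ _ _
    obtain ⟨T, hT⟩ := Algebra.FiniteType.out (R := A) (A := A ⊗[R] B)
    choose u hu using fun z : A ⊗[R] B => TensorProduct.exists_finset z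
    refine ⟨T.biUnion fun z => (u z).image Prod.snd, fun G hG => ?_⟩
    have : (Algebra.TensorProduct.map (AlgHom.id A A) G.val).range = ⊤ := by
      refine eq_top_iff.mpr (hT.symm.trans_le (Algebra.adjoin_le fun z hz => ?_))
      rw [hu z]
      refine Subalgebra.sum_mem _ fun p hp => ?_
      refine ⟨p.1 ⊗ₜ ⟨p.2, hG ?_⟩, rfl⟩
      exact Finset.mem_coe.mpr (Finset.mem_biUnion.mpr ⟨z, hz, Finset.mem_image_of_mem _ hp⟩)
    exact fun z => by
      obtain ⟨w, hw⟩ := (AlgHom.range_eq_top _).mp this z
      exact ⟨w, hw⟩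
  obtain ⟨s, hs⟩ := key S
  obtain ⟨t, ht⟩ := key Rf
  let G : Subalgebra R B := Algebra.adjoin R ((s ∪ t : Finset B) : Set B)
  have hG := surjective_of_tensor hq Rf G.val.toLinearMap
    (hs G fun x hx => Algebra.subset_adjoin (Finset.mem_union_left _ hx))
    (ht G fun x hx => Algebra.subset_adjoin (Finset.mem_union_right _ hx))
  exact ⟨⟨s ∪ t, eq_top_iff.mpr fun b _ => by obtain ⟨⟨x, hx⟩, rfl⟩ := hG b; exact hx⟩⟩

/-- The kernel of a presentation of a flat algebra is finite after tensoring. -/
theorem finite_ker_tensor [Module.Flat R B] {P : Type u} [CommRing P] [Algebra R P]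
    [Algebra.FiniteType R P] [Algebra P B] [IsScalarTower R P B]
    (hπ : Function.Surjective (algebraMap P B)) (A : Type u) [CommRing A] [Algebra R A]
    [Algebra.FinitePresentation A (A ⊗[R] B)] :
    Module.Finite (A ⊗[R] P) ((A ⊗[R] P) ⊗[P] LinearMap.ker (Algebra.linearMap P B)) := by
  let π := Algebra.linearMap P B
  let AP := A ⊗[R] P
  have hinjR : Function.Injective (((LinearMap.ker π).subtype.restrictScalars R).lTensor A) :=
    LinearMap.lTensor_injective_of_exact_of_flat (π.restrictScalars R) hπ
      ((LinearMap.ker π).subtype.restrictScalars R) Subtype.val_injective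
      (fun x => LinearMap.exact_subtype_ker_map π x) A
  let eK := Algebra.IsPushout.cancelBaseChange R A P AP (LinearMap.ker π)
  let eP := Algebra.IsPushout.cancelBaseChange R A P AP P
  have hcomm : ∀ z, eP.symm (((LinearMap.ker π).subtype.restrictScalars R).lTensor A z) =
      (LinearMap.ker π).subtype.baseChange AP (eK.symm z) := by
    intro z
    induction z with
    | zero => simp
    | tmul a k => simp [eK, eP]
    | add a b ha hb => simp only [map_add, ha, hb]
  have hinj : Function.Injective ((LinearMap.ker π).subtype.baseChange AP) := by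
    intro x y hxy
    obtain ⟨x, rfl⟩ := eK.symm.surjective x
    obtain ⟨y, rfl⟩ := eK.symm.surjective y
    rw [← hcomm, ← hcomm] at hxy
    rw [hinjR (eP.symm.injective hxy)]
  let q : AP →ₐ[A] AP ⊗[P] B := IsScalarTower.toAlgHom A AP _
  have hqs : Function.Surjective q := by
    intro z
    induction z with
    | zero => exact ⟨0, map_zero q⟩
    | tmul x b =>
      obtain ⟨p, rfl⟩ := hπ b
      exact ⟨algebraMap P AP p * x, by
        show (algebraMap P AP p * x) ⊗ₜ[P] (1 : B) = _
        rw [← Algebra.smul_def, ← TensorProduct.smul_tmul', ← TensorProduct.tmul_smul,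
          Algebra.smul_def, mul_one]⟩
    | add a b ha hb =>
      obtain ⟨x, rfl⟩ := ha
      obtain ⟨y, rfl⟩ := hb
      exact ⟨x + y, map_add q x y⟩
  haveI : Algebra.FinitePresentation A (AP ⊗[P] B) :=
    Algebra.FinitePresentation.equiv (Algebra.IsPushout.cancelBaseChangeAlg R A P AP B).symm
  haveI : Algebra.FinitePresentation AP (AP ⊗[P] B) :=
    Algebra.FinitePresentation.of_restrict_scalars_finitePresentation A AP _
  have hfg : (LinearMap.ker (Algebra.linearMap AP (AP ⊗[P] B))).FG :=
    Algebra.FinitePresentation.ker_fG_of_surjective (Algebra.ofId AP (AP ⊗[P] B)) hqs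
  haveI : Module.Finite AP (LinearMap.ker (Algebra.linearMap AP (AP ⊗[P] B))) := .of_fg hfg
  have hexact := lTensor_exact AP (LinearMap.exact_subtype_ker_map π) hπ
  let r : AP ⊗[P] P ≃ₗ[AP] AP := TensorProduct.AlgebraTensorModule.rid P AP AP
  have hr : ∀ z, π.baseChange AP z = Algebra.linearMap AP (AP ⊗[P] B) (r z) := by
    intro z
    induction z with
    | zero => simp
    | tmul a p =>
      show a ⊗ₜ[P] algebraMap P B p = (p • a) ⊗ₜ[P] (1 : B)
      rw [Algebra.algebraMap_eq_smul_one, TensorProduct.tmul_smul, TensorProduct.smul_tmul']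
    | add a b ha hb => simp only [map_add, ha, hb]
  let c : AP ⊗[P] LinearMap.ker π →ₗ[AP] LinearMap.ker (Algebra.linearMap AP (AP ⊗[P] B)) :=
    (r.toLinearMap ∘ₗ (LinearMap.ker π).subtype.baseChange AP).codRestrict _ fun x => by
      rw [LinearMap.mem_ker, LinearMap.comp_apply, LinearEquiv.coe_coe, ← hr]
      exact hexact.apply_apply_eq_zero x
  refine Module.Finite.equiv (LinearEquiv.ofBijective c
    ⟨fun a b hab => hinj (r.injective (congrArg Subtype.val hab)), fun y => ?_⟩).symm
  obtain ⟨x, hx⟩ := (hexact (r.symm y.1)).mp (by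
    show π.baseChange AP (r.symm y.1) = 0
    rw [hr, r.apply_symm_apply]; exact y.2)
  exact ⟨x, Subtype.ext (by
    show r ((LinearMap.ker π).subtype.baseChange AP x) = y.1
    exact (congrArg r hx).trans (r.apply_symm_apply _))⟩

theorem finitePresentation_of_tensor [Module.Flat R B] [Algebra.FinitePresentation S (S ⊗[R] B)]
    [Algebra.FinitePresentation Rf (Rf ⊗[R] B)] : Algebra.FinitePresentation R B := by
  haveI : Algebra.FiniteType R B := finiteType_of_tensor hq Rf
  obtain ⟨n, π, hπ⟩ := Algebra.FiniteType.iff_quotient_mvPolynomial''.mp ‹Algebra.FiniteType R B›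
  let P := MvPolynomial (Fin n) R
  letI : Algebra P B := π.toRingHom.toAlgebra
  haveI : IsScalarTower R P B := IsScalarTower.of_algebraMap_eq fun r => (π.commutes r).symm
  haveI := finite_ker_tensor hq (f := f) (S := S) hπ S
  haveI := finite_ker_tensor hq (f := f) (S := S) hπ Rf
  haveI : IsLocalization.Away (algebraMap R P f) (Rf ⊗[R] P) := inferInstance
  have hK : Module.Finite P (LinearMap.ker (Algebra.linearMap P B)) :=
    finite_of_tensor (quotPowBijective_tensor hq P) (Rf ⊗[R] P) _
  exact Algebra.FinitePresentation.of_surjective (f := π) hπ (Module.Finite.iff_fg.mp hK : _)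

theorem etale_of_tensor [Module.Flat R B] [Algebra.Etale S (S ⊗[R] B)]
    [Algebra.Etale Rf (Rf ⊗[R] B)] : Algebra.Etale R B := by
  haveI : Algebra.FinitePresentation R B := finitePresentation_of_tensor hq Rf
  have key : ∀ (A : Type u) [CommRing A] [Algebra R A] [Algebra.Etale A (A ⊗[R] B)],
      Subsingleton (A ⊗[R] Ω[B⁄R]) := fun A _ _ _ =>
    (KaehlerDifferential.tensorKaehlerEquivBase R A B (A ⊗[R] B)).toEquiv.subsingleton
  haveI := key S
  haveI := key Rf
  haveI : Subsingleton Ω[B⁄R] := subsingleton_of_tensor hq inferInstance fun m =>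
    isTors_of_map_eq_zero (f := f) (TensorProduct.mk R Rf _ 1) (Subsingleton.elim _ 0)
  haveI : Algebra.FormallyUnramified R B := ⟨inferInstance⟩
  exact Algebra.Etale.of_formallyUnramified_of_flat

end Groth.Agent.Glue
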