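import Groth.Agent.Lib.Glue.Basic
import Mathlib.RingTheory.TensorProduct.Maps
import Mathlib.LinearAlgebra.TensorProduct.Prod

/-!
# Glueable modules and torsion

`M` is glueable iff `m ↦ 1 ⊗ m` is bijective on `f`-power torsion.
-/

universe u v w

open TensorProduct

namespace Groth.Agent.Glue

variable {R S : Type u} [CommRing R] [CommRing S] [Algebra R S] {f : R}

theorem exists_preimage_of_compat {M : Type v} {N : Type w} [AddCommGroup M] [Module R M]
    [AddCommGroup N] [Module R N] {Mf Nf : Type*} [AddCommMonoid Mf] [Module R Mf] [AddCommMonoid Nf]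
    [Module R Nf] (i : M →ₗ[R] N) (lM : M →ₗ[R] Mf) [IsLocalizedModule (Submonoid.powers f) lM]
    (lN : N →ₗ[R] Nf) [IsLocalizedModule (Submonoid.powers f) lN] (j : Mf →ₗ[R] Nf)
    (hj : ∀ m, j (lM m) = lN (i m))
    (hmod : ∀ (n : ℕ) (m : M) (x : N), i m = f ^ n • x → ∃ μ, m = f ^ n • μ)
    (hsurj : ∀ x : N, IsTors f x → ∃ m : M, IsTors f m ∧ i m = x)
    (x : N) (y : Mf) (h : lN x = j y) : ∃ μ : M, i μ = x ∧ lM μ = y := by
  obtain ⟨n, m, hm⟩ := exists_pow_smul_eq (f := f) lM y
  have h0 : lN (f ^ n • x) = lN (i m) := by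
    rw [map_smul, h, ← map_smul j, hm, hj]
  obtain ⟨m₁, ht₁, hm₁⟩ := hsurj _ (isTors_sub_of_map_eq lN h0)
  obtain ⟨μ₀, hμ₀⟩ := hmod n (m + m₁) x (by rw [map_add, hm₁]; abel)
  have h2 : IsTors f (x - i μ₀) := ⟨n, by
    rw [smul_sub, ← map_smul, ← hμ₀, map_add, hm₁]; abel⟩
  obtain ⟨μ₁, htμ₁, hμ₁⟩ := hsurj _ h2
  refine ⟨μ₀ + μ₁, by rw [map_add, hμ₁]; abel, pow_smul_injective (f := f) lM n ?_⟩
  show f ^ n • lM (μ₀ + μ₁) = f ^ n • y
  rw [map_add, map_eq_zero_of_isTors lM htμ₁, add_zero, ← map_smul, ← hμ₀, map_add,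
    map_eq_zero_of_isTors lM ht₁, add_zero, hm]

section

variable {M : Type u} [AddCommGroup M] [Module R M]

theorem tensorOfLoc_mk (m : M) :
    EtGlue.tensorOfLoc R S f M (LocalizedModule.mkLinearMap (Submonoid.powers f) M m) =
      EtGlue.locOfTensor R S f M ((1 : S) ⊗ₜ[R] m) :=
  IsLocalizedModule.map_apply _ _ _ _ _

theorem isGlueable_of_torsion (hq : EtGlue.QuotPowBijective R S f)
    (hinj : ∀ m : M, IsTors f m → (1 : S) ⊗ₜ[R] m = 0 → m = 0)
    (hsurj : ∀ x : S ⊗[R] M, IsTors f x → ∃ m : M, IsTors f m ∧ (1 : S) ⊗ₜ[R] m = x) :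
    EtGlue.IsGlueable R S f M := by
  refine ⟨fun a b hab => ?_, fun x y h => ?_⟩
  · simp only [Prod.mk.injEq] at hab
    refine sub_eq_zero.mp (hinj (a - b)
      (isTors_sub_of_map_eq (LocalizedModule.mkLinearMap (Submonoid.powers f) M) hab.2) ?_)
    rw [tmul_sub, hab.1, sub_self]
  · exact exists_preimage_of_compat (f := f) (TensorProduct.mk R S M 1)
      (LocalizedModule.mkLinearMap (Submonoid.powers f) M) (EtGlue.locOfTensor R S f M)
      (EtGlue.tensorOfLoc R S f M) tensorOfLoc_mk
      (fun n m x => exists_eq_smul_of_one_tmul hq n m x) hsurj x y h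

theorem eq_zero_of_isGlueable (h : EtGlue.IsGlueable R S f M) (m : M) (hm : IsTors f m)
    (h1 : (1 : S) ⊗ₜ[R] m = 0) : m = 0 :=
  h.1 (show ((1 : S) ⊗ₜ[R] m, LocalizedModule.mkLinearMap (Submonoid.powers f) M m) =
      ((1 : S) ⊗ₜ[R] (0 : M), LocalizedModule.mkLinearMap (Submonoid.powers f) M 0) by
    rw [h1, tmul_zero, map_eq_zero_of_isTors _ hm, map_zero])

theorem exists_of_isGlueable (h : EtGlue.IsGlueable R S f M) (x : S ⊗[R] M) (hx : IsTors f x) :
    ∃ m : M, IsTors f m ∧ (1 : S) ⊗ₜ[R] m = x := by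
  obtain ⟨m, hm, hm'⟩ := h.2 x 0 (by
    rw [map_zero]; exact map_eq_zero_of_isTors (EtGlue.locOfTensor R S f M) hx)
  exact ⟨m, isTors_of_map_eq_zero _ hm', hm⟩

end

section GlueingPair

variable (hRR : EtGlue.IsGlueingPair R S f)

include hRR

theorem ring_torsion_inj (x : R) (hx : IsTors f x) (h : algebraMap R S x = 0) : x = 0 := by
  refine hRR.2.1 (show (algebraMap R S x, algebraMap R (Localization.Away f) x) =
    (algebraMap R S 0, algebraMap R (Localization.Away f) 0) from ?_)
  rw [h, map_zero, map_zero]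
  exact Prod.ext rfl (map_eq_zero_of_isTors (f := f) (Algebra.linearMap R (Localization.Away f)) hx)

theorem ring_torsion_surj (x : S) (hx : IsTors f x) :
    ∃ r : R, IsTors f r ∧ algebraMap R S r = x := by
  obtain ⟨n, hn⟩ := hx
  obtain ⟨r, hr, hr'⟩ := hRR.2.2.1 x 0 (by
    rw [map_zero]
    refine (IsLocalization.map_eq_zero_iff (Submonoid.powers (algebraMap R S f)) _ x).mpr
      ⟨⟨_, n, rfl⟩, ?_⟩
    rwa [Algebra.smul_def, map_pow] at hn)
  exact ⟨r, isTors_of_map_eq_zero (f := f) (Algebra.linearMap R (Localization.Away f)) hr', hr⟩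

/-- For a glueing pair, torsion of `S ⊗ M` always comes from torsion of `M`. -/
theorem exists_of_glueingPair {M : Type v} [AddCommGroup M] [Module R M] (x : S ⊗[R] M)
    (hx : IsTors f x) : ∃ m : M, IsTors f m ∧ (1 : S) ⊗ₜ[R] m = x := by
  let Sf := Localization.Away (algebraMap R S f)
  let a : R →ₗ[R] S × Localization.Away f :=
    (Algebra.linearMap R S).prod (Algebra.linearMap R (Localization.Away f))
  let aw : Localization.Away f →ₗ[R] Sf :=
    { toFun := Localization.awayMap (algebraMap R S) f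
      map_add' := map_add _
      map_smul' := fun c y => by
        rw [Algebra.smul_def, map_mul, RingHom.id_apply, Algebra.smul_def, Localization.awayMap,
          IsLocalization.Away.map, IsLocalization.map_eq, IsScalarTower.algebraMap_apply R S Sf] }
  let b : S × Localization.Away f →ₗ[R] Sf :=
    ((IsScalarTower.toAlgHom R S Sf).toLinearMap).comp (LinearMap.fst R _ _) -
      aw.comp (LinearMap.snd R _ _)
  have hb : Function.Surjective b := fun z => by
    obtain ⟨p, q, hpq⟩ := hRR.2.2.2 z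
    exact ⟨(p, q), hpq⟩
  have hexact : Function.Exact a b := fun p => by
    refine ⟨fun hp => ?_, ?_⟩
    · obtain ⟨r, hr, hr'⟩ := hRR.2.2.1 p.1 p.2 (sub_eq_zero.mp hp)
      exact ⟨r, Prod.ext hr hr'⟩
    · rintro ⟨r, rfl⟩
      refine sub_eq_zero.mpr ?_
      show algebraMap S Sf (algebraMap R S r) =
        Localization.awayMap (algebraMap R S) f (algebraMap R (Localization.Away f) r)
      rw [Localization.awayMap, IsLocalization.Away.map, IsLocalization.map_eq]
  obtain ⟨n, hn⟩ := hx
  have h0 : b.rTensor M ((LinearMap.inl R S (Localization.Away f)).rTensor M x) = 0 := by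
    set y := b.rTensor M ((LinearMap.inl R S (Localization.Away f)).rTensor M x)
    have hy : algebraMap R Sf (f ^ n) • y = 0 := by
      rw [algebraMap_smul, ← map_smul, ← map_smul, hn, map_zero, map_zero]
    have hu : IsUnit (algebraMap R Sf (f ^ n)) := by
      rw [map_pow, IsScalarTower.algebraMap_apply R S Sf]
      exact (IsLocalization.Away.algebraMap_isUnit (algebraMap R S f)).pow n
    exact hu.smul_eq_zero.mp hy
  obtain ⟨z, hz⟩ := (rTensor_exact M hexact hb _).mp h0
  obtain ⟨m, rfl⟩ : ∃ m : M, (1 : R) ⊗ₜ[R] m = z :=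
    ⟨TensorProduct.lid R M z, (TensorProduct.lid R M).injective (by simp)⟩
  refine ⟨m, isTors_of_map_eq_zero (f := f)
    (TensorProduct.mk R (Localization.Away f) M 1) ?_, ?_⟩
  · have h := congrArg ((LinearMap.snd R S (Localization.Away f)).rTensor M) hz
    rw [← LinearMap.rTensor_comp_apply, ← LinearMap.rTensor_comp_apply, LinearMap.snd_comp_inl,
      LinearMap.rTensor_zero, LinearMap.zero_apply, LinearMap.rTensor_tmul] at h
    simpa [a] using h
  · have h := congrArg ((LinearMap.fst R S (Localization.Away f)).rTensor M) hz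
    rw [← LinearMap.rTensor_comp_apply, ← LinearMap.rTensor_comp_apply, LinearMap.fst_comp_inl,
      LinearMap.rTensor_id, LinearMap.id_apply, LinearMap.rTensor_tmul] at h
    simpa [a] using h

theorem isGlueable_iff_inj {M : Type u} [AddCommGroup M] [Module R M] :
    EtGlue.IsGlueable R S f M ↔ ∀ m : M, IsTors f m → (1 : S) ⊗ₜ[R] m = 0 → m = 0 :=
  ⟨eq_zero_of_isGlueable, fun h => isGlueable_of_torsion hRR.1 h (exists_of_glueingPair hRR)⟩

end GlueingPair

theorem isGlueingPair_of_torsion (hq : EtGlue.QuotPowBijective R S f)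
    (hinj : ∀ x : R, IsTors f x → algebraMap R S x = 0 → x = 0)
    (hsurj : ∀ x : S, IsTors f x → ∃ r : R, IsTors f r ∧ algebraMap R S r = x) :
    EtGlue.IsGlueingPair R S f := by
  refine ⟨hq, fun a b hab => ?_, fun x y h => ?_, fun z => ?_⟩
  · simp only [Prod.mk.injEq] at hab
    refine sub_eq_zero.mp (hinj (a - b) (isTors_of_map_eq_zero (f := f)
      (Algebra.linearMap R (Localization.Away f)) ?_) ?_)
    · rw [map_sub, Algebra.linearMap_apply, Algebra.linearMap_apply, hab.2, sub_self]
    · rw [map_sub, hab.1, sub_self]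
  · obtain ⟨⟨m, ⟨_, n, rfl⟩⟩, hm⟩ := IsLocalization.surj (Submonoid.powers f) y
    dsimp only at hm
    set Sf := Localization.Away (algebraMap R S f)
    have hawy : ∀ r : R, Localization.awayMap (algebraMap R S) f (algebraMap R _ r) =
        algebraMap S Sf (algebraMap R S r) := fun r => by
      rw [Localization.awayMap, IsLocalization.Away.map, IsLocalization.map_eq]
    have h0 : algebraMap S Sf (algebraMap R S (f ^ n) * x - algebraMap R S m) = 0 := by
      rw [map_sub, map_mul, h, ← hawy, ← hawy, ← map_mul, mul_comm, hm, sub_self]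
    obtain ⟨⟨_, k, rfl⟩, hk⟩ :=
      (IsLocalization.map_eq_zero_iff (Submonoid.powers (algebraMap R S f)) _ _).mp h0
    obtain ⟨m₁, ht₁, hm₁⟩ := hsurj (algebraMap R S (f ^ n) * x - algebraMap R S m)
      ⟨k, by rw [Algebra.smul_def, map_pow]; exact hk⟩
    obtain ⟨μ₀, hμ₀⟩ := exists_eq_mul_of_algebraMap_eq hq n (m + m₁) x (by
      rw [map_add, hm₁]; ring)
    obtain ⟨μ₁, htμ₁, hμ₁⟩ := hsurj (x - algebraMap R S μ₀) ⟨n, by
      rw [Algebra.smul_def, mul_sub, ← map_mul, ← hμ₀, map_add, hm₁]; ring⟩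
    refine ⟨μ₀ + μ₁, by rw [map_add, hμ₁]; ring, ?_⟩
    have hz : ∀ r : R, IsTors f r → algebraMap R (Localization.Away f) r = 0 :=
      fun r hr => map_eq_zero_of_isTors (f := f) (Algebra.linearMap R (Localization.Away f)) hr
    refine (IsLocalization.map_units (Localization.Away f)
      (⟨f ^ n, n, rfl⟩ : Submonoid.powers f)).mul_left_cancel ?_
    rw [map_add, hz _ htμ₁, add_zero, ← map_mul, ← hμ₀, map_add, hz _ ht₁, add_zero, mul_comm, hm]
  · obtain ⟨⟨s, ⟨_, n, rfl⟩⟩, hs⟩ :=
      IsLocalization.surj (Submonoid.powers (algebraMap R S f)) z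
    dsimp only at hs
    obtain ⟨r, t, hrt⟩ := exists_add_mul hq n s
    let y := IsLocalization.mk' (Localization.Away f) r (⟨f ^ n, n, rfl⟩ : Submonoid.powers f)
    refine ⟨t, -y, ?_⟩
    have hy : algebraMap R (Localization.Away f) (f ^ n) * y = algebraMap R _ r :=
      IsLocalization.mk'_spec' (Localization.Away f) r (⟨f ^ n, n, rfl⟩ : Submonoid.powers f)
    have hy' := congrArg (Localization.awayMap (algebraMap R S) f) hy
    have hawy : ∀ r : R, Localization.awayMap (algebraMap R S) f (algebraMap R _ r) =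
        algebraMap S (Localization.Away (algebraMap R S f)) (algebraMap R S r) := fun r => by
      rw [Localization.awayMap, IsLocalization.Away.map, IsLocalization.map_eq]
    rw [map_mul, hawy, hawy] at hy'
    refine (IsLocalization.map_units (Localization.Away (algebraMap R S f))
      (⟨algebraMap R S f ^ n, n, rfl⟩ : Submonoid.powers (algebraMap R S f))).mul_left_cancel ?_
    dsimp only
    rw [mul_comm (algebraMap S (Localization.Away (algebraMap R S f)) (algebraMap R S f ^ n)) z, hs, hrt, map_neg, sub_neg_eq_add,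
      mul_add, ← map_pow (algebraMap R S), hy', map_add, map_mul]
    ring

end Groth.Agent.Glue
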